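import Cfsg.Agent.H627.Gow.Mackey_m3
import Cfsg.Agent.H732.RankOneGG
import Cfsg.Agent.H42.Deg.F4BigB
import Cfsg.Agent.H710.Cuspidal
import Cfsg.Agent.FastGrp
import Cfsg.Agent.Prune
set_option linter.all false
prune_inst 0x7f00000000000000000000000000000000000000000000000000000000000000000000000000000000000000000000000000000000000000000000000000000000000000000000000000000000000000003ffc7ef7ffffffffffffffffffffbeffbdebfeffff
open scoped Cfsg.Agent.FastGrp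

-- part: H628/Sq/Lin
section
/-!
# Linear characters of a Borel subgroup

* `norm_lin` : `‖Ind_B θ‖² ≤ n` if the double cosets of `B` come in `n` pairs, the elements of a pair act inversely on
  the torus, and `θ² ≠ 1`;
* `exists_lin` : a character of `G` with fixed vectors under `U` contains a linear character of `B / U`;
* `irr_of_sum_ne_zero` : constituents with fixed vectors;
* `kernel_of_sum_ne_zero` : an irreducible character with fixed vectors under a normal subgroup.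
-/

set_option autoImplicit false

open scoped ComplexConjugate
open Cfsg

namespace Cfsg.Agent.H628.Sq.Lin

open Cfsg.Agent.OddOrderCharacters.Clifford Cfsg.Agent.Characters Cfsg.Agent.H628.Sq.NormLe
open Cfsg.Agent.CharactersDeep.MackeyLinear

universe u

variable {G : Type u} [Group G]

theorem norm_hom {T : Type*} [Group T] [Finite T] (f : T →* ℂˣ) (t : T) : ‖((f t : ℂˣ) : ℂ)‖ = 1 := by
  have h1 : ((f t : ℂˣ) : ℂ) ^ Nat.card T = 1 := by
    rw [← Units.val_pow_eq_pow_val, ← map_pow, pow_card_eq_one', map_one, Units.val_one]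
  exact Complex.norm_eq_one_of_pow_eq_one h1 Nat.card_pos.ne'

/-- the trivial bound of the Mackey term -/
theorem twist_le_card [Finite G] (B : Subgroup G) [Fintype B] (θ : B →* ℂˣ) (x : G) :
    ‖twist B (fun t => (θ t : ℂ)) (fun t => (θ t : ℂ)) x‖ ≤ 1 * Nat.card (dsub B x) := by
  classical
  have : Fintype (dsub B x) := Fintype.ofFinite _
  have h1 : twist B (fun t => (θ t : ℂ)) (fun t => (θ t : ℂ)) x =
      ∑ d : dsub B x, (θ d : ℂ) * conj (θ ⟨x⁻¹ * ((d : B) : G) * x, (mem_dsub B x d).1 d.2⟩ : ℂ) := by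
    rw [twist_def, sum_eq_sum_subgroup (dsub B x)]
    · refine Finset.sum_congr rfl fun d _ => ?_
      rw [ext_apply_mem B _ _ ((mem_dsub B x d).1 d.2)]
    · intro t ht
      rw [mem_dsub] at ht
      rw [ext_apply_not_mem B _ _ ht, map_zero, mul_zero]
  rw [h1]
  refine (norm_sum_le _ _).trans (le_of_eq ?_)
  rw [Finset.sum_congr rfl (g := fun _ => (1 : ℝ))]
  · rw [Finset.sum_const, Finset.card_univ, ← Nat.card_eq_fintype_card, nsmul_eq_mul, mul_one, one_mul]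
  · intro d _
    rw [norm_mul, RCLike.norm_conj, norm_hom, norm_hom, mul_one]

/-- **The norm of `Ind_B θ`.** -/
theorem norm_lin [Fintype G] (B T : Subgroup G) [Fintype B] (hTB : T ≤ B) {ι : Type*} [Fintype ι] (r : ι → Bool → G)
    (hr : ∀ x, ∃ i c, ∃ a ∈ B, ∃ b ∈ B, x = a * r i c * b)
    (hT : ∀ i c, ∀ t ∈ T, (r i c)⁻¹ * t * r i c ∈ T)
    (hinv : ∀ i, ∀ t ∈ T, (r i true)⁻¹ * t * r i true = ((r i false)⁻¹ * t * r i false)⁻¹)
    (θ : B →* ℂˣ) (hθ : ∃ (t : G) (ht : t ∈ T), θ ⟨t, hTB ht⟩ * θ ⟨t, hTB ht⟩ ≠ 1) :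
    ‖classInner (indFun B (fun t => (θ t : ℂ))) (indFun B (fun t => (θ t : ℂ)))‖ ≤ Fintype.card ι := by
  classical
  have hcl : IsClassFunction B (fun t => (θ t : ℂ)) :=
    Core.isIrr_isClassFunction (Characters.Linear.isIrrCharacter_hom θ)
  set w : G → ℂ := twist B (fun t => (θ t : ℂ)) (fun t => (θ t : ℂ)) with hw
  have key := norm_le B hcl (ι := ι × Bool) (fun p => r p.1 p.2) (fun p => if w (r p.1 p.2) = 0 then 0 else 1) ?_ ?_
  · refine key.trans ?_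
    rw [Fintype.sum_prod_type]
    have h1 : ∀ i, ∑ c : Bool, (if w (r i c) = 0 then (0 : ℝ) else 1) ≤ 1 := by
      intro i
      rw [Fintype.sum_bool]
      by_cases h1 : w (r i true) = 0
      · rw [if_pos h1]
        split_ifs <;> norm_num
      · by_cases h2 : w (r i false) = 0
        · rw [if_pos h2]
          split_ifs; norm_num
        · exfalso
          have e1 : ∀ t (ht : t ∈ T), θ ⟨t, hTB ht⟩ = θ ⟨_, hTB (hT i true t ht)⟩ := by
            intro t ht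
            by_contra hne
            exact h1 (twist_eq_zero B θ (r i true) ⟨⟨t, hTB ht⟩, hTB (hT i true t ht), hne⟩)
          have e2 : ∀ t (ht : t ∈ T), θ ⟨t, hTB ht⟩ = θ ⟨_, hTB (hT i false t ht)⟩ := by
            intro t ht
            by_contra hne
            exact h2 (twist_eq_zero B θ (r i false) ⟨⟨t, hTB ht⟩, hTB (hT i false t ht), hne⟩)
          obtain ⟨t, ht, hne⟩ := hθ
          apply hne
          have e3 : (⟨_, hTB (hT i true t ht)⟩ : B) = (⟨_, hTB (hT i false t ht)⟩ : B)⁻¹ :=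
            Subtype.ext (hinv i t ht)
          calc θ ⟨t, hTB ht⟩ * θ ⟨t, hTB ht⟩ = θ ⟨_, hTB (hT i true t ht)⟩ * θ ⟨_, hTB (hT i false t ht)⟩ := by
                rw [← e1 t ht, ← e2 t ht]
            _ = 1 := by rw [e3, map_inv, inv_mul_cancel]
    calc ∑ i, ∑ c : Bool, (if w (r i c) = 0 then (0 : ℝ) else 1) ≤ ∑ _i : ι, (1 : ℝ) :=
          Finset.sum_le_sum fun i _ => h1 i
      _ = _ := by rw [Finset.sum_const, Finset.card_univ, nsmul_eq_mul, mul_one]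
  · intro x
    obtain ⟨i, c, h⟩ := hr x
    exact ⟨(i, c), h⟩
  · rintro ⟨i, c⟩
    show ‖w (r i c)‖ ≤ (if w (r i c) = 0 then (0 : ℝ) else 1) * _
    split_ifs with h
    · rw [h, norm_zero, zero_mul]
    · exact twist_le_card B θ (r i c)

/-! ### constituents with fixed vectors -/

/-- a constituent with fixed vectors -/
theorem irr_of_sum_ne_zero {P : Type*} [Group P] [Fintype P] {Θ : P → ℂ} (hΘ : IsCharacter P Θ) {K : Type*}
    [Fintype K] (j : K → P) (h : ∑ k : K, Θ (j k) ≠ 0) :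
    ∃ τ : P → ℂ, IsIrrCharacter P τ ∧ classInner Θ τ ≠ 0 ∧ ∑ k : K, τ (j k) ≠ 0 := by
  classical
  have : Finite (IrrCharacter P) := Core.finite_irr
  let _ : Fintype (IrrCharacter P) := Fintype.ofFinite _
  obtain ⟨m, hm⟩ := Core.isCharacter_iff.1 hΘ
  by_contra hcon
  push Not at hcon
  apply h
  have h1 : ∑ k : K, Θ (j k) = ∑ τ : IrrCharacter P, (m τ : ℂ) * ∑ k : K, (τ : P → ℂ) (j k) := by
    simp only [Finset.mul_sum]
    rw [Finset.sum_comm]
    refine Finset.sum_congr rfl fun k _ => ?_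
    rw [hm, Finset.sum_apply]
    exact Finset.sum_congr rfl fun τ _ => by rw [Pi.smul_apply, nsmul_eq_mul]
  rw [h1]
  refine Finset.sum_eq_zero fun τ _ => ?_
  by_cases h0 : m τ = 0
  · rw [h0, Nat.cast_zero, zero_mul]
  · rw [hcon τ τ.2 (by
      have e2 : classInner Θ (τ : P → ℂ) = m τ := by
        rw [hm]; exact Core.classInner_sum_nsmul_irr m τ
      rw [e2]
      exact_mod_cast h0), mul_zero]

/-- an irreducible character with fixed vectors under a normal subgroup -/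
theorem kernel_of_sum_ne_zero {P : Type*} [Group P] [Finite P] {τ : P → ℂ} (hτ : IsIrrCharacter P τ) (K : Subgroup P)
    [Fintype K] (hK : ∀ g, ∀ k ∈ K, g * k * g⁻¹ ∈ K) (h : ∑ k : K, τ k ≠ 0) (g : P) {k : P} (hk : k ∈ K) :
    τ (g * k) = τ g := by
  classical
  obtain ⟨n, ρ, hρ, rfl⟩ := hτ
  have hn : ∀ x : P, ∀ u, u ∈ K ↔ x * u * x⁻¹ ∈ K := by
    intro x u
    refine ⟨hK x u, fun h1 => ?_⟩
    have := hK x⁻¹ _ h1
    rwa [show x⁻¹ * (x * u * x⁻¹) * x⁻¹⁻¹ = u by group] at this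
  -- the range of `Z` is invariant
  have hZ : H710.Cuspidal.Z ρ K ≠ 0 := by
    intro h0
    apply h
    have : ∑ u : K, ρ.character u = LinearMap.trace ℂ (Fin n → ℂ) (H710.Cuspidal.Z ρ K) := by
      rw [H710.Cuspidal.Z, map_sum]
      rfl
    rw [this, h0, map_zero]
  have hcomm : ∀ x, ρ x * H710.Cuspidal.Z ρ K = H710.Cuspidal.Z ρ K * ρ x := fun x =>
    H710.Cuspidal.rho_comm_Z ρ K (hn x)
  let U : Subrepresentation ρ :=
    { toSubmodule := LinearMap.range (H710.Cuspidal.Z ρ K)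
      apply_mem_toSubmodule := by
        rintro x _ ⟨v, rfl⟩
        refine ⟨ρ x v, ?_⟩
        exact (LinearMap.congr_fun (hcomm x) v).symm }
  have hU : U = ⊤ := by
    rcases IsSimpleOrder.eq_bot_or_eq_top U with h1 | h1
    · exfalso
      apply hZ
      have h2 : U.toSubmodule = ⊥ := by rw [h1]; rfl
      exact LinearMap.range_eq_bot.1 h2
    · exact h1
  have hk1 : ρ k = 1 := by
    refine LinearMap.ext fun v => ?_
    have hv : v ∈ U.toSubmodule := by rw [hU]; exact Submodule.mem_top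
    obtain ⟨w, hw⟩ := hv
    show ρ k v = v
    rw [← hw]
    exact LinearMap.congr_fun (H710.Cuspidal.rho_mul_Z ρ K hk) w
  show LinearMap.trace ℂ _ (ρ (g * k)) = LinearMap.trace ℂ _ (ρ g)
  rw [map_mul, hk1, mul_one]

/-- **a linear character of `B / U`** in a character of `B` with fixed vectors under `U` -/
theorem exists_lin {B : Type*} [Group B] [Fintype B] {Θ : B → ℂ} (hΘ : IsCharacter B Θ) (U : Subgroup B) [Fintype U]
    (hU : ∀ g, ∀ u ∈ U, g * u * g⁻¹ ∈ U) (hab : ∀ h k : B, ∃ u ∈ U, h * k = k * h * u) (h : ∑ u : U, Θ u ≠ 0) :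
    ∃ θ : B →* ℂˣ, (∀ u ∈ U, θ u = 1) ∧ classInner Θ (fun b => (θ b : ℂ)) ≠ 0 := by
  obtain ⟨τ, hτ, h1, h2⟩ := irr_of_sum_ne_zero hΘ (fun u : U => (u : B)) h
  have h3 := H732.RankOneGG.degree_one U hU hab hτ h2
  obtain ⟨θ, hθ⟩ := Characters.Linear.exists_hom_of_isIrrCharacter hτ h3
  refine ⟨θ, fun u hu => ?_, ?_⟩
  · have h4 := kernel_of_sum_ne_zero hτ U hU h2 1 hu
    rw [one_mul, hθ] at h4
    simp only [map_one, Units.val_one] at h4
    exact Units.ext (by rw [h4, Units.val_one])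
  · rw [← hθ]
    exact h1

end Cfsg.Agent.H628.Sq.Lin
end

-- part: H628/Sq/TwFNorm
section
/-!
# `²F₄(q)`: the norms of the Harish-Chandra induced characters

* `norm_PP`, `norm_PB` : `‖Ind_P τ‖² ≤ 2 + 3 f²`, `f` the multiplicity of the trivial character of `X_1` (`X_8`);
* `norm_BB` : `‖Ind_B θ‖² ≤ 8` for `θ ≠ 1`.
-/

set_option autoImplicit false
set_option linter.unusedSectionVars false

open scoped ComplexConjugate

namespace Cfsg.Agent.H628.Sq.TwFNorm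

open Cfsg Cfsg.Agent.SplitTwo Cfsg.Agent.SplitTwo.ZS Cfsg.Agent.TitsThree.RankTwoZ Cfsg.Agent.SplitTwo.RootSysZ
open Cfsg.Agent.KFacts.TwF4 Cfsg.Agent.KFacts.TwF4.Arc Cfsg.Agent.KFacts.TwF4.SylU Cfsg.Agent.KFacts.TwF4.TorEx
open Cfsg.Agent.KFacts.TwF4.Full Cfsg.Agent.KFacts.TwF4.Irr
open Cfsg.Agent.H42.Deg.F4 Cfsg.Agent.H628.Sq.Par Cfsg.Agent.H628.Sq.Lin
open Cfsg.Agent.H42.Deg.F4B (PB NB NB_form PB_form J_le_PB T_le_PB L4_le_PB NB_le_PB rot4_T)

universe u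

variable {F : Type*} [Field F] {σ : F →+* F} {G : Type u} [Group G] (S : Full σ G)

/-- the representative `k ↦ 2 c - k` -/
def rp (c : ℤ) : G := S.rot ^ (c - 5) * S.n1

theorem rp_maps (c : ℤ) : Maps S.R.X (rp S c) (fun k => ((2 * c : ℤ) : ZMod (2 * 8)) - k) := by
  refine ((S.rot_maps (c - 5)).mul S.n1_maps).congr fun k => ?_
  show ((2 * (c - 5) : ℤ) : ZMod (2 * 8)) + (10 - k) = ((2 * c : ℤ) : ZMod (2 * 8)) - k
  push_cast
  ring

theorem rp_inv_maps (c : ℤ) : Maps S.R.X (rp S c)⁻¹ (fun k => ((2 * c : ℤ) : ZMod (2 * 8)) - k) :=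
  (rp_maps S c).inv fun k => sub_sub_cancel _ k

/-- an element with the same action differs by an element of the torus -/
theorem rp_T {c : ℤ} {y : G} (hy : Maps S.R.X y (fun k => ((2 * c : ℤ) : ZMod (2 * 8)) - k)) :
    (rp S c)⁻¹ * y ∈ S.T := by
  show Maps S.R.X _ id
  exact ((rp_inv_maps S c).mul hy).congr fun k => sub_sub_cancel _ k

theorem conj_T {w : G} {c : ℤ} (hw : Maps S.R.X w (fun k => ((2 * c : ℤ) : ZMod (2 * 8)) - k)) {t : G} (ht : t ∈ S.T) :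
    w⁻¹ * t * w ∈ S.T := by
  show Maps S.R.X _ id
  have hwi : Maps S.R.X w⁻¹ (fun k => ((2 * c : ℤ) : ZMod (2 * 8)) - k) := hw.inv fun k => sub_sub_cancel _ k
  exact ((hwi.mul ht).mul hw).congr fun k => sub_sub_cancel _ k

/-- conjugation on arcs -/
theorem conj_J {w : G} {c : ℤ} (hw : Maps S.R.X w (fun k => ((2 * c : ℤ) : ZMod (2 * 8)) - k)) {a b : ℤ} {x : G}
    (hx : x ∈ J S.XZ a b) : w⁻¹ * x * w ∈ J S.XZ (2 * c - b) (2 * c - a) := by
  have hwi : Maps S.R.X w⁻¹ (fun k => ((2 * c : ℤ) : ZMod (2 * 8)) - k) := hw.inv fun k => sub_sub_cancel _ k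
  have := S.map_sub hwi hx
  rwa [inv_inv] at this

/-- a subgroup stable under conjugation in both directions -/
theorem iff_of_maps {w : G} {c : ℤ} (hw : Maps S.R.X w (fun k => ((2 * c : ℤ) : ZMod (2 * 8)) - k)) (L : Subgroup G)
    (h : ∀ w : G, Maps S.R.X w (fun k => ((2 * c : ℤ) : ZMod (2 * 8)) - k) → ∀ l ∈ L, w⁻¹ * l * w ∈ L) (l : G) :
    l ∈ L ↔ w⁻¹ * l * w ∈ L := by
  refine ⟨h w hw l, fun h1 => ?_⟩
  have hwi : Maps S.R.X w⁻¹ (fun k => ((2 * c : ℤ) : ZMod (2 * 8)) - k) := hw.inv fun k => sub_sub_cancel _ k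
  have h2 := h w⁻¹ hwi _ h1
  rwa [show w⁻¹⁻¹ * (w⁻¹ * l * w) * w⁻¹ = l by group] at h2

/-! ### `PP` -/

variable [Finite F]

theorem LO_le : S.T ⊔ S.LO ≤ PP S := sup_le (T_le_PP S) (LO_le_PP S)

theorem conj_LO {w : G} (hw : Maps S.R.X w (fun k => ((2 * 1 : ℤ) : ZMod (2 * 8)) - k)) {l : G}
    (hl : l ∈ S.T ⊔ S.LO) : w⁻¹ * l * w ∈ S.T ⊔ S.LO := by
  have hwi : Maps S.R.X w⁻¹ (fun k => ((2 * 1 : ℤ) : ZMod (2 * 8)) - k) := hw.inv fun k => sub_sub_cancel _ k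
  have h1 : S.XZ 1 ≤ S.T ⊔ S.LO := le_sup_left.trans le_sup_right
  have h9 : S.XZ 9 ≤ S.T ⊔ S.LO := le_sup_right.trans le_sup_right
  have : S.T ⊔ S.LO ≤ (S.T ⊔ S.LO).comap (MulAut.conj w⁻¹).toMonoidHom := by
    refine sup_le (fun t ht => ?_) (sup_le (fun x hx => ?_) fun x hx => ?_)
    · show w⁻¹ * t * w⁻¹⁻¹ ∈ S.T ⊔ S.LO
      rw [inv_inv]
      exact Subgroup.mem_sup_left (conj_T S hw ht)
    · show w⁻¹ * x * w⁻¹⁻¹ ∈ S.T ⊔ S.LO
      apply h1
      have h5 : w⁻¹ * x * w⁻¹⁻¹ ∈ S.R.X (((2 * 1 : ℤ) : ZMod (2 * 8)) - ((1 : ℤ) : ZMod (2 * 8))) :=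
        (hwi ((1 : ℤ) : ZMod (2 * 8)) x).2 hx
      rw [show ((2 * 1 : ℤ) : ZMod (2 * 8)) - ((1 : ℤ) : ZMod (2 * 8)) = ((1 : ℤ) : ZMod (2 * 8)) by decide] at h5
      exact h5
    · show w⁻¹ * x * w⁻¹⁻¹ ∈ S.T ⊔ S.LO
      apply h9
      have h5 : w⁻¹ * x * w⁻¹⁻¹ ∈ S.R.X (((2 * 1 : ℤ) : ZMod (2 * 8)) - ((9 : ℤ) : ZMod (2 * 8))) :=
        (hwi ((9 : ℤ) : ZMod (2 * 8)) x).2 hx
      rw [show ((2 * 1 : ℤ) : ZMod (2 * 8)) - ((9 : ℤ) : ZMod (2 * 8)) = ((9 : ℤ) : ZMod (2 * 8)) by decide] at h5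
      exact h5
  have h2 := this hl
  have h3 : w⁻¹ * l * w⁻¹⁻¹ ∈ S.T ⊔ S.LO := h2
  rwa [inv_inv] at h3

theorem norm_PP [Fintype G] [Fintype (PP S)] [Fintype (S.XZ 1)] {τ : PP S → ℂ} (hτ : IsIrrCharacter (PP S) τ)
    (hR : ∀ g r : PP S, (r : G) ∈ J S.XZ 2 8 → τ (g * r) = τ g) (hX : S.XZ 1 ≤ PP S) {f : ℂ}
    (hf : ∑ x : S.XZ 1, τ ⟨x, hX x.2⟩ = Nat.card (S.XZ 1) * f) :
    ‖classInner (indFun (PP S) τ) (indFun (PP S) τ)‖ ≤ 2 + 3 * ‖f‖ ^ 2 := by
  have Z := S.zsys8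
  have h28 : J S.XZ 2 8 ≤ PP S := (J_mono (by norm_num) (by norm_num)).trans (J_le_PP S)
  have key := norm_par (PP S) (J S.XZ 2 8) (S.XZ 1) (S.T ⊔ S.LO) h28 hX (LO_le S) ?_ (ι := Fin 3)
    (fun i => rp S ((i : ℕ) + 2)) (rp S 1) ?_ (iff_of_maps S (rp_maps S 1) _ fun w hw l hl => conj_LO S hw hl)
    (fun i => J S.XZ 1 (2 * (i : ℕ) + 3)) ?_ ?_ ?_ ?_ hτ hR hf
  · refine key.trans (le_of_eq ?_)
    rw [Fintype.card_fin]
    norm_num
  · intro g hg
    obtain ⟨l, hl, n, hn, rfl⟩ := PP_form S hg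
    obtain ⟨z, hz, y, hy, rfl⟩ := N1_form S hn
    exact ⟨l * z, mul_mem (Subgroup.mem_sup_right hl) (Subgroup.mem_sup_left (ZJ_le_T S hz)), y, hy, by rw [mul_assoc]⟩
  · intro x hx
    obtain ⟨a, ha, b, hb, y, hxy, c, hc1, hc4, hy⟩ := dcoset S hx
    have ht := rp_T S hy
    have e : x = a * rp S c * (((rp S c)⁻¹ * y) * b) := by rw [hxy]; group
    have hb' := mul_mem (T_le_PP S ht) hb
    rcases eq_or_lt_of_le hc1 with h1 | h1
    · left
      subst h1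
      exact ⟨a, ha, _, hb', e⟩
    · right
      refine ⟨⟨(c - 2).toNat, by omega⟩, a, ha, _, hb', ?_⟩
      have h2 : (((c - 2).toNat : ℕ) : ℤ) + 2 = c := by omega
      show x = a * rp S ((((c - 2).toNat : ℕ) : ℤ) + 2) * _
      rw [h2]
      exact e
  · intro i
    exact X_le_J le_rfl (by omega)
  · intro i m hm
    have hi := i.2
    obtain ⟨x, hx, y, hy, rfl⟩ := Z.split_ll (by omega) (by omega) hm
    exact ⟨x, hx, y, J_mono (by omega) (by omega) hy, rfl⟩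
  · intro i x hx
    have hi := i.2
    have h1 := conj_J S (rp_maps S ((i : ℕ) + 2)) (mem_J hx le_rfl le_rfl)
    exact J_mono (by omega) (by omega) h1
  · intro i
    refine iff_of_maps S (rp_maps S ((i : ℕ) + 2)) _ fun w hw l hl => ?_
    have h1 := conj_J S hw hl
    exact J_mono (by omega) (by omega) h1

/-! ### `PB` -/

theorem L4_le : S.T ⊔ L4 S ≤ PB S := sup_le (T_le_PB S) (L4_le_PB S)

theorem conj_L4 {w : G} (hw : Maps S.R.X w (fun k => ((2 * 8 : ℤ) : ZMod (2 * 8)) - k)) {l : G}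
    (hl : l ∈ S.T ⊔ L4 S) : w⁻¹ * l * w ∈ S.T ⊔ L4 S := by
  have hwi : Maps S.R.X w⁻¹ (fun k => ((2 * 8 : ℤ) : ZMod (2 * 8)) - k) := hw.inv fun k => sub_sub_cancel _ k
  have h1 : S.XZ 0 ≤ S.T ⊔ L4 S := le_sup_left.trans le_sup_right
  have h9 : S.XZ 8 ≤ S.T ⊔ L4 S := le_sup_right.trans le_sup_right
  have : S.T ⊔ L4 S ≤ (S.T ⊔ L4 S).comap (MulAut.conj w⁻¹).toMonoidHom := by
    refine sup_le (fun t ht => ?_) (sup_le (fun x hx => ?_) fun x hx => ?_)
    · show w⁻¹ * t * w⁻¹⁻¹ ∈ S.T ⊔ L4 S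
      rw [inv_inv]
      exact Subgroup.mem_sup_left (conj_T S hw ht)
    · show w⁻¹ * x * w⁻¹⁻¹ ∈ S.T ⊔ L4 S
      apply h1
      have h5 : w⁻¹ * x * w⁻¹⁻¹ ∈ S.R.X (((2 * 8 : ℤ) : ZMod (2 * 8)) - ((0 : ℤ) : ZMod (2 * 8))) :=
        (hwi ((0 : ℤ) : ZMod (2 * 8)) x).2 hx
      rw [show ((2 * 8 : ℤ) : ZMod (2 * 8)) - ((0 : ℤ) : ZMod (2 * 8)) = ((0 : ℤ) : ZMod (2 * 8)) by decide] at h5
      exact h5
    · show w⁻¹ * x * w⁻¹⁻¹ ∈ S.T ⊔ L4 S
      apply h9
      have h5 : w⁻¹ * x * w⁻¹⁻¹ ∈ S.R.X (((2 * 8 : ℤ) : ZMod (2 * 8)) - ((8 : ℤ) : ZMod (2 * 8))) :=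
        (hwi ((8 : ℤ) : ZMod (2 * 8)) x).2 hx
      rw [show ((2 * 8 : ℤ) : ZMod (2 * 8)) - ((8 : ℤ) : ZMod (2 * 8)) = ((8 : ℤ) : ZMod (2 * 8)) by decide] at h5
      exact h5
  have h2 := this hl
  have h3 : w⁻¹ * l * w⁻¹⁻¹ ∈ S.T ⊔ L4 S := h2
  rwa [inv_inv] at h3

theorem norm_PB [Fintype G] [Fintype (PB S)] [Fintype (S.XZ 8)] {τ : PB S → ℂ} (hτ : IsIrrCharacter (PB S) τ)
    (hR : ∀ g r : PB S, (r : G) ∈ J S.XZ 1 7 → τ (g * r) = τ g) (hX : S.XZ 8 ≤ PB S) {f : ℂ}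
    (hf : ∑ x : S.XZ 8, τ ⟨x, hX x.2⟩ = Nat.card (S.XZ 8) * f) :
    ‖classInner (indFun (PB S) τ) (indFun (PB S) τ)‖ ≤ 2 + 3 * ‖f‖ ^ 2 := by
  have Z := S.zsys8
  have h17 : J S.XZ 1 7 ≤ PB S := (J_mono (by norm_num) (by norm_num)).trans (J_le_PB S)
  have key := norm_par (PB S) (J S.XZ 1 7) (S.XZ 8) (S.T ⊔ L4 S) h17 hX (L4_le S) ?_ (ι := Fin 3)
    (fun i => rp S ((i : ℕ) + 5)) (rp S 8) ?_ (iff_of_maps S (rp_maps S 8) _ fun w hw l hl => conj_L4 S hw hl)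
    (fun i => J S.XZ (2 * (i : ℕ) + 2) 8) ?_ ?_ ?_ ?_ hτ hR hf
  · refine key.trans (le_of_eq ?_)
    rw [Fintype.card_fin]
    norm_num
  · intro g hg
    obtain ⟨l, hl, n, hn, rfl⟩ := PB_form S hg
    obtain ⟨z, hz, y, hy, rfl⟩ := NB_form S hn
    exact ⟨l * z, mul_mem (Subgroup.mem_sup_right hl) (Subgroup.mem_sup_left (Cfsg.Agent.H42.Deg.F4B.ZE_le_T S hz)),
      y, hy, by rw [mul_assoc]⟩
  · intro x hx
    obtain ⟨a, ha, b, hb, y, hxy, c, hc1, hc4, hy⟩ := Cfsg.Agent.H42.Deg.F4B.dcoset S hx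
    have ht := rp_T S hy
    have e : x = a * rp S c * (((rp S c)⁻¹ * y) * b) := by rw [hxy]; group
    have hb' := mul_mem (T_le_PB S ht) hb
    rcases eq_or_lt_of_le hc4 with h1 | h1
    · left
      subst h1
      exact ⟨a, ha, _, hb', e⟩
    · right
      refine ⟨⟨(c - 5).toNat, by omega⟩, a, ha, _, hb', ?_⟩
      have h2 : (((c - 5).toNat : ℕ) : ℤ) + 5 = c := by omega
      show x = a * rp S ((((c - 5).toNat : ℕ) : ℤ) + 5) * _
      rw [h2]
      exact e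
  · intro i
    have hi := i.2
    exact X_le_J (by omega) le_rfl
  · intro i m hm
    have hi := i.2
    obtain ⟨x, hx, y, hy, rfl⟩ := Z.split_rl (by omega) (by omega) hm
    exact ⟨x, hx, y, J_mono (by omega) (by omega) hy, rfl⟩
  · intro i x hx
    have hi := i.2
    have h1 := conj_J S (rp_maps S ((i : ℕ) + 5)) (mem_J hx le_rfl le_rfl)
    exact J_mono (by omega) (by omega) h1
  · intro i
    refine iff_of_maps S (rp_maps S ((i : ℕ) + 5)) _ fun w hw l hl => ?_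
    have h1 := conj_J S hw hl
    exact J_mono (by omega) (by omega) h1

/-! ### the Borel subgroup -/

/-- the Borel subgroup -/
def BB : Subgroup G := S.T ⊔ J S.XZ 1 8

theorem T_le_BB : S.T ≤ BB S := le_sup_left
theorem J_le_BB : J S.XZ 1 8 ≤ BB S := le_sup_right

/-- the representatives of the double cosets -/
def rb (i : Fin 4 × Bool) (c : Bool) : G :=
  S.rot ^ (if c then (4 : ℤ) else 0) * (S.rot ^ ((i.1 : ℕ) : ℤ) * if i.2 then S.n1 else 1)

theorem conj_T_rot (k : ℤ) {t : G} (ht : t ∈ S.T) : (S.rot ^ k)⁻¹ * t * S.rot ^ k ∈ S.T := by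
  show Maps S.R.X _ id
  have h1 : Maps S.R.X (S.rot ^ k)⁻¹ (fun j => ((2 * (-k) : ℤ) : ZMod (2 * 8)) + j) := by
    rw [← zpow_neg]
    exact S.rot_maps (-k)
  refine ((h1.mul ht).mul (S.rot_maps k)).congr fun j => ?_
  show ((2 * (-k) : ℤ) : ZMod (2 * 8)) + (((2 * k : ℤ) : ZMod (2 * 8)) + j) = j
  push_cast
  ring

theorem conj_T_n1 {t : G} (ht : t ∈ S.T) : S.n1⁻¹ * t * S.n1 ∈ S.T := by
  have h1 : Maps S.R.X S.n1 (fun k => ((2 * 5 : ℤ) : ZMod (2 * 8)) - k) := S.n1_maps.congr fun k => by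
    show (10 : ZMod (2 * 8)) - k = _
    norm_num
  exact conj_T S h1 ht

theorem rb_T (i : Fin 4 × Bool) (c : Bool) {t : G} (ht : t ∈ S.T) : (rb S i c)⁻¹ * t * rb S i c ∈ S.T := by
  unfold rb
  have h1 := conj_T_rot S (if c then (4 : ℤ) else 0) ht
  have h2 := conj_T_rot S ((i.1 : ℕ) : ℤ) h1
  have e : (S.rot ^ (if c then (4 : ℤ) else 0) * (S.rot ^ ((i.1 : ℕ) : ℤ) * if i.2 then S.n1 else 1))⁻¹ * t *
      (S.rot ^ (if c then (4 : ℤ) else 0) * (S.rot ^ ((i.1 : ℕ) : ℤ) * if i.2 then S.n1 else 1)) =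
      (if i.2 then S.n1 else 1)⁻¹ * ((S.rot ^ ((i.1 : ℕ) : ℤ))⁻¹ * ((S.rot ^ (if c then (4 : ℤ) else 0))⁻¹ * t *
        S.rot ^ (if c then (4 : ℤ) else 0)) * S.rot ^ ((i.1 : ℕ) : ℤ)) * (if i.2 then S.n1 else 1) := by group
  rw [e]
  have h3 : ∀ (b : Bool) (s : G), s ∈ S.T → (if b then S.n1 else 1)⁻¹ * s * (if b then S.n1 else 1) ∈ S.T := by
    intro b s hs
    cases b
    · simpa using hs
    · simpa using conj_T_n1 S hs
  exact h3 _ _ h2

theorem rb_inv [Finite G] (i : Fin 4 × Bool) {t : G} (ht : t ∈ S.T) :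
    (rb S i true)⁻¹ * t * rb S i true = ((rb S i false)⁻¹ * t * rb S i false)⁻¹ := by
  have h1 : (S.rot ^ (4 : ℤ))⁻¹ * t * S.rot ^ (4 : ℤ) = t⁻¹ := by
    have := rot4_T S ht
    rw [zpow_neg, inv_inv] at this
    exact this
  unfold rb
  simp only [if_true, Bool.false_eq_true, if_false, zpow_zero, one_mul]
  set r := S.rot ^ ((i.1 : ℕ) : ℤ) * if i.2 then S.n1 else 1 with hr
  calc (S.rot ^ (4 : ℤ) * r)⁻¹ * t * (S.rot ^ (4 : ℤ) * r) = r⁻¹ * ((S.rot ^ (4 : ℤ))⁻¹ * t * S.rot ^ (4 : ℤ)) * r := by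
        group
    _ = (r⁻¹ * t * r)⁻¹ := by rw [h1]; group

theorem cover (x : G) : ∃ i c, ∃ a ∈ BB S, ∃ b ∈ BB S, x = a * rb S i c * b := by
  obtain ⟨b, hb, t, ht, w, hw, b', hb', rfl⟩ := S.bruhatE x
  have hbB : b ∈ BB S := J_le_BB S hb
  have hbB' : b' ∈ BB S := J_le_BB S hb'
  have htB : t ∈ BB S := T_le_BB S ht
  -- it is enough to find a representative of `w` modulo the torus
  suffices h : ∃ i c, ((rb S i c)⁻¹ * w) ∈ S.T by
    obtain ⟨i, c, h⟩ := h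
    exact ⟨i, c, b * t, mul_mem hbB htB, ((rb S i c)⁻¹ * w) * b', mul_mem (T_le_BB S h) hbB', by group⟩
  -- rotations
  have hrot : ∀ (c : ℤ) (w : G), Maps S.R.X w (fun k => ((2 * c : ℤ) : ZMod (2 * 8)) + k) →
      ∃ (i : Fin 4) (d : Bool), (S.rot ^ (if d then (4 : ℤ) else 0) * S.rot ^ ((i : ℕ) : ℤ))⁻¹ * w ∈ S.T := by
    intro c w hc
    obtain ⟨c', h1, h2, h3⟩ := reduce c 0
    rw [h3] at hc
    have key : ∀ k : ℤ, k = c' → (S.rot ^ k)⁻¹ * w ∈ S.T := by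
      rintro k rfl
      show Maps S.R.X _ id
      have h4 : Maps S.R.X (S.rot ^ k)⁻¹ (fun j => ((2 * (-k) : ℤ) : ZMod (2 * 8)) + j) := by
        rw [← zpow_neg]
        exact S.rot_maps (-k)
      refine (h4.mul hc).congr fun j => ?_
      show ((2 * (-k) : ℤ) : ZMod (2 * 8)) + (((2 * k : ℤ) : ZMod (2 * 8)) + j) = j
      push_cast
      ring
    by_cases h5 : c' < 4
    · refine ⟨⟨c'.toNat, by omega⟩, false, ?_⟩
      simp only [Bool.false_eq_true, if_false, zpow_zero, one_mul]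
      exact key _ (by omega)
    · refine ⟨⟨(c' - 4).toNat, by omega⟩, true, ?_⟩
      simp only [if_true]
      rw [← zpow_add]
      exact key _ (by omega)
  obtain ⟨c, hc | hc⟩ := hw
  · obtain ⟨i, d, h⟩ := hrot c w hc
    refine ⟨(i, false), d, ?_⟩
    unfold rb
    simpa using h
  · -- reflections
    have h1 : Maps S.R.X (w * S.n1⁻¹) (fun k => ((2 * (c - 5) : ℤ) : ZMod (2 * 8)) + k) := by
      have h2 : Maps S.R.X S.n1⁻¹ (fun k => 10 - k) := S.n1_maps.inv fun k => sub_sub_cancel _ k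
      refine (hc.mul h2).congr fun k => ?_
      show ((2 * c : ℤ) : ZMod (2 * 8)) - (10 - k) = _
      push_cast
      ring
    obtain ⟨i, d, h⟩ := hrot _ _ h1
    refine ⟨(i, true), d, ?_⟩
    unfold rb
    simp only [if_true]
    have e : (S.rot ^ (if d then (4 : ℤ) else 0) * (S.rot ^ ((i : ℕ) : ℤ) * S.n1))⁻¹ * w =
        S.n1⁻¹ * ((S.rot ^ (if d then (4 : ℤ) else 0) * S.rot ^ ((i : ℕ) : ℤ))⁻¹ * (w * S.n1⁻¹)) * S.n1 := by group
    rw [e]
    exact conj_T_n1 S h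

/-- **The norm of `Ind_B θ`.** -/
theorem norm_BB [Fintype G] [Fintype (BB S)] (θ : BB S →* ℂˣ) (hU : ∀ u : BB S, (u : G) ∈ J S.XZ 1 8 → θ u = 1)
    (hθ : θ ≠ 1) : ‖classInner (indFun (BB S) (fun t => (θ t : ℂ))) (indFun (BB S) (fun t => (θ t : ℂ)))‖ ≤ 8 := by
  have key := norm_lin (BB S) S.T (T_le_BB S) (rb S) (cover S) (fun i c t ht => rb_T S i c ht)
    (fun i t ht => rb_inv S i ht) θ ?_
  · refine key.trans (le_of_eq ?_)
    rw [Fintype.card_prod, Fintype.card_fin, Fintype.card_bool]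
    norm_num
  · by_contra hcon
    push Not at hcon
    apply hθ
    have hT : ∀ t (ht : t ∈ S.T), θ ⟨t, T_le_BB S ht⟩ = 1 := by
      intro t ht
      obtain ⟨c, d, rfl⟩ := S.mem_T.1 ht
      obtain ⟨a, ha⟩ := exists_sq S c
      obtain ⟨b, hb⟩ := exists_sq S d
      have hs : S.h a b ∈ S.T := S.mem_T.2 ⟨a, b, rfl⟩
      have e : (⟨S.h c d, T_le_BB S ht⟩ : BB S) = ⟨S.h a b, T_le_BB S hs⟩ * ⟨S.h a b, T_le_BB S hs⟩ :=
        Subtype.ext (by
          show S.h c d = S.h a b * S.h a b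
          rw [S.h_mul, ha, hb])
      rw [e, map_mul]
      exact hcon _ hs
    ext ⟨x, hx⟩
    rw [MonoidHom.one_apply]
    congr 1
    obtain ⟨t, ht, u, hu, rfl⟩ := mem_sup_of_norm (A := S.T) (B := J S.XZ 1 8)
      (fun t ht u hu => S.T_conj_J ht hu) hx
    have e : (⟨t * u, hx⟩ : BB S) = ⟨t, T_le_BB S ht⟩ * ⟨u, J_le_BB S hu⟩ := rfl
    rw [e, map_mul, hT t ht, hU _ hu, one_mul]

end Cfsg.Agent.H628.Sq.TwFNorm
end

-- part: H628/Sq/TwFHC
section
/-!
# `²F₄(q)`: nine irreducible characters that agree on the parabolic subgroups are cuspidal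

`cuspidal`.
-/

set_option autoImplicit false
set_option linter.unusedSectionVars false

open scoped ComplexConjugate

namespace Cfsg.Agent.H628.Sq.TwFHC

open Cfsg Cfsg.Agent.SplitTwo Cfsg.Agent.SplitTwo.ZS Cfsg.Agent.TitsThree.RankTwoZ Cfsg.Agent.SplitTwo.RootSysZ
open Cfsg.Agent.KFacts.TwF4 Cfsg.Agent.KFacts.TwF4.Arc Cfsg.Agent.KFacts.TwF4.SylU Cfsg.Agent.KFacts.TwF4.TorEx
open Cfsg.Agent.KFacts.TwF4.Full Cfsg.Agent.KFacts.TwF4.Irr
open Cfsg.Agent.H42.Deg.F4 Cfsg.Agent.H628.Sq.Par Cfsg.Agent.H628.Sq.Lin Cfsg.Agent.H628.Sq.TwFNorm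
open Cfsg.Agent.H628.Sq.NormLe Cfsg.Agent.Characters Cfsg.Agent.OddOrderCharacters.Clifford
open Cfsg.Agent.H732.RankOneGG
open Cfsg.Agent.H42.Deg.F4B (PB J_le_PB T_le_PB)

universe u

/-! ### generalities -/

section gen

variable {G : Type u} [Group G]

/-- many irreducible characters with the same restriction to `P` -/
theorem card_le_ind [Fintype G] (P : Subgroup G) [Fintype P] {ψ : P → ℂ} (hψ : IsCharacter P ψ)
    (s : Finset (IrrCharacter G)) (h : ∀ χ ∈ s, ∀ χ' ∈ s, ∀ g ∈ P, (χ : G → ℂ) g = (χ' : G → ℂ) g)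
    {χ₀ : IrrCharacter G} (h0 : χ₀ ∈ s) (hne : classInner (fun g : P => (χ₀ : G → ℂ) g) ψ ≠ 0) :
    (s.card : ℝ) ≤ ‖classInner (indFun P ψ) (indFun P ψ)‖ := by
  refine card_le_norm (Cfsg.Agent.S0148.result P _ hψ) s fun χ hχ => ?_
  rw [classInner_indFun P _ _ (Core.isIrr_isClassFunction χ.2)]
  intro h1
  apply hne
  rw [← Core.classInner_conj_symm, map_eq_zero]
  rw [← h1]
  congr 1
  funext g
  exact h χ₀ h0 χ hχ g g.2

theorem sum_hom_nat {P K : Type*} [Group P] [Group K] [Fintype K] {Θ : P → ℂ} (hΘ : IsCharacter P Θ) (f : K →* P) :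
    ∃ n : ℕ, ∑ k : K, Θ (f k) = Nat.card K * n := by
  obtain ⟨n, hn⟩ := Core.classInner_isNat (Core.isCharacter_comp f hΘ) (Core.isCharacter_one (G := K))
  refine ⟨n, ?_⟩
  rw [classInner_apply, inv_mul_eq_iff_eq_mul₀ card_ne_zero'] at hn
  rw [← hn]
  refine Finset.sum_congr rfl fun k _ => ?_
  simp

/-- constituents have fewer fixed vectors -/
theorem sum_eq_zero_of_constituent {P K : Type*} [Group P] [Fintype P] [Group K] [Fintype K] {Θ τ : P → ℂ}
    (hΘ : IsCharacter P Θ) (hτ : IsIrrCharacter P τ) (hc : classInner Θ τ ≠ 0) (f : K →* P)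
    (h : ∑ k : K, Θ (f k) = 0) : ∑ k : K, τ (f k) = 0 := by
  obtain ⟨a, ha⟩ := sum_hom_nat (Core.isIrr_isCharacter hτ) f
  obtain ⟨b, hb⟩ := sum_hom_nat (isCharacter_sub_irr hΘ hτ hc) f
  have h1 : ∑ k : K, Θ (f k) = ∑ k : K, τ (f k) + ∑ k : K, (Θ - τ) (f k) := by
    rw [← Finset.sum_add_distrib]
    refine Finset.sum_congr rfl fun k _ => ?_
    rw [Pi.sub_apply]
    ring
  rw [h, ha, hb, ← mul_add] at h1
  have h2 : (Nat.card K : ℂ) ≠ 0 := card_ne_zero'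
  have h3 := (mul_eq_zero.1 h1.symm).resolve_left h2
  have h4 : a + b = 0 := by exact_mod_cast h3
  have h5 : a = 0 := by omega
  rw [ha, h5, Nat.cast_zero, mul_zero]

theorem inner_one {M : Type*} [Group M] [Fintype M] (φ : M → ℂ) : classInner φ (1 : M → ℂ) =
    (Nat.card M : ℂ)⁻¹ * ∑ x : M, φ x := by
  rw [classInner_apply]
  congr 1
  exact Finset.sum_congr rfl fun x _ => by simp

/-- fixed vectors of a larger group are fixed by the smaller group -/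
theorem sum_ne_zero_of_hom {P H K : Type*} [Group P] [Group H] [Fintype H] [Group K] [Fintype K] {Θ : P → ℂ}
    (hΘ : IsCharacter P Θ) (f : H →* P) (j : K →* H) (h : ∑ k : H, Θ (f k) ≠ 0) : ∑ k : K, Θ (f (j k)) ≠ 0 := by
  intro h0
  apply h
  have h1 := inner_le_comp j (Core.isCharacter_comp f hΘ) (Core.isCharacter_one (G := H))
  have h3 : classInner ((Θ ∘ f) ∘ j) ((1 : H → ℂ) ∘ j) = 0 := by
    have e : (1 : H → ℂ) ∘ j = (1 : K → ℂ) := rfl
    rw [e, inner_one]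
    have : ∑ x : K, ((Θ ∘ f) ∘ j) x = 0 := h0
    rw [this, mul_zero]
  rw [h3, norm_zero] at h1
  have h4 := norm_eq_zero.1 (le_antisymm h1 (norm_nonneg _))
  rw [inner_one] at h4
  exact (mul_eq_zero.1 h4).resolve_left (inv_ne_zero card_ne_zero')

/-- the average over `U = X R` of an `R`-invariant function is its average over `X` -/
theorem sum_U {U X R : Subgroup G} [Fintype U] [Fintype X] (F : G → ℂ) (hX : X ≤ U)
    (hF : ∀ g r, r ∈ R → F (g * r) = F g) (hU : ∀ g ∈ U, ∃ l ∈ X, ∃ r ∈ R, g = l * r) :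
    (Nat.card U : ℂ) * ∑ l : X, F l = Nat.card X * ∑ g : U, F g := by
  have h1 : ∑ g : U, ∑ l : X, F (l * g) = (Nat.card U : ℂ) * ∑ l : X, F l := by
    rw [Finset.sum_congr rfl fun (g : U) _ => sum_left F hF (hU g g.2), Finset.sum_const, Finset.card_univ,
      Nat.card_eq_fintype_card, nsmul_eq_mul]
  have h2 : ∑ g : U, ∑ l : X, F (l * g) = (Nat.card X : ℂ) * ∑ g : U, F g := by
    rw [Finset.sum_comm]
    have h3 : ∀ l : X, ∑ g : U, F (l * g) = ∑ g : U, F g := fun l =>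
      Fintype.sum_equiv (Equiv.mulLeft (⟨l, hX l.2⟩ : U)) _ _ fun g => rfl
    rw [Finset.sum_congr rfl fun l _ => h3 l, Finset.sum_const, Finset.card_univ, Nat.card_eq_fintype_card,
      nsmul_eq_mul]
  rw [← h1, h2]

/-- **irreducible restriction**: `P = L N`, `N` in the kernel -/
theorem irr_restrict [Finite G] {P L N : Subgroup G} (hLP : L ≤ P) (hNP : N ≤ P)
    (hPL : ∀ g ∈ P, ∃ l ∈ L, ∃ r ∈ N, g = l * r) {τ : P → ℂ} (hτ : IsIrrCharacter P τ)
    (hN : ∀ g r : P, (r : G) ∈ N → τ (g * r) = τ g) : IsIrrCharacter L fun l : L => τ ⟨l, hLP l.2⟩ := by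
  classical
  have := Fintype.ofFinite P
  have := Fintype.ofFinite L
  have hch : IsCharacter L fun l : L => τ ⟨l, hLP l.2⟩ :=
    Core.isCharacter_comp (Subgroup.inclusion hLP) (Core.isIrr_isCharacter hτ)
  set t : G → ℂ := extendByZero P τ with ht
  have tP : ∀ g (hg : g ∈ P), t g = τ ⟨g, hg⟩ := fun g hg => ext_apply_mem P τ g hg
  have tr : ∀ g r, r ∈ N → t (g * r) = t g := by
    intro g r hr
    by_cases hg : g ∈ P
    · rw [tP g hg, tP _ (mul_mem hg (hNP hr))]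
      exact hN ⟨g, hg⟩ ⟨r, hNP hr⟩ hr
    · rw [ht, ext_apply_not_mem P τ g hg, ext_apply_not_mem P τ _ fun h => hg ?_]
      have := mul_mem h (inv_mem (hNP hr))
      rwa [mul_inv_cancel_right] at this
  refine Core.isIrr_of_classInner_self hch ?_
  have h1 := sum_U (U := P) (X := L) (R := N) (fun g => t g * conj (t g)) hLP (fun g r hr => by
    show t (g * r) * conj (t (g * r)) = _
    rw [tr g r hr]) hPL
  have h2 : ∑ g : P, t g * conj (t g) = Nat.card P := by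
    have h1 := Core.classInner_irr_self hτ
    rw [classInner_apply, inv_mul_eq_iff_eq_mul₀ card_ne_zero', mul_one] at h1
    rw [← h1]
    exact Finset.sum_congr rfl fun g _ => by rw [tP g g.2]
  rw [h2, mul_comm] at h1
  have h3 : ∑ l : L, t l * conj (t l) = Nat.card L := mul_right_cancel₀ card_ne_zero' h1
  rw [classInner_apply, inv_mul_eq_iff_eq_mul₀ card_ne_zero', mul_one, ← h3]
  exact Finset.sum_congr rfl fun l _ => by rw [tP l (hLP l.2)]

/-- a character with fixed vectors of a Borel subgroup of a group of rank one has at most one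
dimension of fixed vectors under the unipotent radical -/
theorem mu_le_one {H U : Subgroup G} {w : G} [Fintype G] [Fintype H] [Fintype U]
    (D : Cfsg.Agent.LieRecognition.RankOneAbstract.Data H U w) (χ : IrrCharacter G) (h : mu H 1 χ ≠ 0) :
    mu U 1 χ ≤ 1 := by
  classical
  have : Finite (IrrCharacter G) := Core.finite_irr
  let _ : Fintype (IrrCharacter G) := Fintype.ofFinite _
  have h1 := sum_mul D (1 : H →* ℂˣ) (fun u _ => rfl) (1 : U →* ℂˣ)
  rw [if_pos rfl] at h1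
  have hone : ∀ (K : Subgroup G) [Fintype K], mu K 1 (⟨1, Core.isIrr_one⟩ : IrrCharacter G) = 1 := by
    intro K _
    have h2 := mu_spec K 1 (⟨1, Core.isIrr_one⟩ : IrrCharacter G)
    have h3 : classInner (fun u : K => (((1 : K →* ℂˣ) u : ℂˣ) : ℂ)) (fun u : K => (1 : G → ℂ) u) = 1 :=
      Core.classInner_irr_self (G := K) Core.isIrr_one
    have h4 : (mu K 1 (⟨1, Core.isIrr_one⟩ : IrrCharacter G) : ℂ) = 1 := by
      rw [← h2]; exact h3
    exact_mod_cast h4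
  by_cases hχ : χ = ⟨1, Core.isIrr_one⟩
  · rw [hχ, hone U]
  · have h2 : ∑ ψ ∈ ({⟨1, Core.isIrr_one⟩, χ} : Finset (IrrCharacter G)), mu H 1 ψ * mu U 1 ψ ≤ 1 + 1 := by
      rw [← h1]
      exact Finset.sum_le_sum_of_subset (Finset.subset_univ _)
    rw [Finset.sum_pair (Ne.symm hχ), hone H, hone U, mul_one] at h2
    have h3 : mu H 1 χ * mu U 1 χ ≤ 1 := by omega
    have h4 : 1 ≤ mu H 1 χ := Nat.pos_of_ne_zero h
    calc mu U 1 χ = 1 * mu U 1 χ := (one_mul _).symm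
      _ ≤ mu H 1 χ * mu U 1 χ := Nat.mul_le_mul_right _ h4
      _ ≤ 1 := h3

end gen

/-! ### `²F₄(q)` -/

variable {F : Type*} [Field F] [Finite F] {σ : F →+* F} {G : Type u} [Group G] (S : Full σ G)

theorem BB_comm {h k : G} (hh : h ∈ BB S) (hk : k ∈ BB S) : ∃ u ∈ J S.XZ 1 8, h * k = k * h * u := by
  have hn : ∀ t ∈ S.T, ∀ u ∈ J S.XZ 1 8, t * u * t⁻¹ ∈ J S.XZ 1 8 := fun t ht u hu => S.T_conj_J ht hu
  obtain ⟨t, ht, u, hu, rfl⟩ := mem_sup_of_norm (A := S.T) (B := J S.XZ 1 8) hn hh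
  obtain ⟨t', ht', u', hu', rfl⟩ := mem_sup_of_norm (A := S.T) (B := J S.XZ 1 8) hn hk
  have hn' : ∀ t ∈ S.T, ∀ u ∈ J S.XZ 1 8, t⁻¹ * u * t ∈ J S.XZ 1 8 := fun t ht u hu => by
    have := hn t⁻¹ (inv_mem ht) u hu
    rwa [inv_inv] at this
  have hc := T_comm S ht ht'
  refine ⟨(t' * u' * (t * u))⁻¹ * (t * u * (t' * u')), ?_, by group⟩
  have e : (t' * u' * (t * u))⁻¹ * (t * u * (t' * u')) =
      u⁻¹ * (t⁻¹ * u'⁻¹ * t) * ((t'⁻¹ * (t⁻¹ * t * u * t⁻¹ * t) * t')) * u' := by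
    have h1 : t'⁻¹ * t = t * t'⁻¹ := by
      have := T_comm S (inv_mem ht') ht
      exact this
    have h2 : t⁻¹ * t'⁻¹ * t = t'⁻¹ := by rw [mul_assoc, h1]; group
    calc (t' * u' * (t * u))⁻¹ * (t * u * (t' * u')) = u⁻¹ * (t⁻¹ * u'⁻¹ * t) * (t⁻¹ * t'⁻¹ * t) * u * t' * u' := by
          group
      _ = _ := by rw [h2]; group
  rw [e]
  refine mul_mem (mul_mem (mul_mem (inv_mem hu) (hn' t ht _ (inv_mem hu'))) (hn' t' ht' _ ?_)) hu'
  rw [show t⁻¹ * t * u * t⁻¹ * t = u by group]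
  exact hu

theorem BB_norm {h u : G} (hh : h ∈ BB S) (hu : u ∈ J S.XZ 1 8) : h * u * h⁻¹ ∈ J S.XZ 1 8 := by
  have hn : ∀ t ∈ S.T, ∀ u ∈ J S.XZ 1 8, t * u * t⁻¹ ∈ J S.XZ 1 8 := fun t ht u hu => S.T_conj_J ht hu
  obtain ⟨t, ht, v, hv, rfl⟩ := mem_sup_of_norm (A := S.T) (B := J S.XZ 1 8) hn hh
  have e : t * v * u * (t * v)⁻¹ = t * (v * u * v⁻¹) * t⁻¹ := by group
  rw [e]
  exact hn t ht _ (mul_mem (mul_mem hv hu) (inv_mem hv))

theorem BB_le_PP : BB S ≤ PP S := sup_le (T_le_PP S) ((J_mono le_rfl (by norm_num)).trans (J_le_PP S))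

theorem BM_le_BB : BM S ≤ BB S := by
  refine sup_le ((TM_le_T S).trans (T_le_BB S)) ?_
  exact (X_le_J le_rfl (by norm_num)).trans (J_le_BB S)

theorem N1_le_BB : N1 S ≤ BB S :=
  sup_le ((ZJ_le_T S).trans (T_le_BB S)) ((J_mono (by norm_num) le_rfl).trans (J_le_BB S))

theorem PP_norm {h u : G} (hh : h ∈ PP S) (hu : u ∈ J S.XZ 2 8) : h * u * h⁻¹ ∈ J S.XZ 2 8 := by
  have Z := S.zsys8
  have h1 : PP S ≤ Subgroup.normalizer (J S.XZ 2 8 : Set G) := by
    refine sup_le (fun t ht => ?_) ?_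
    · rw [Subgroup.mem_normalizer_iff]
      intro x
      refine ⟨fun hx => S.T_conj_J ht hx, fun hx => ?_⟩
      have := S.T_conj_J (inv_mem ht) hx
      rwa [show t⁻¹ * (t * x * t⁻¹) * t⁻¹⁻¹ = x by group] at this
    · have := Z.le_normalizer (a := 2) (b := 8) (by norm_num)
      exact this
  exact (Subgroup.mem_normalizer_iff.1 (h1 hh) u).1 hu

theorem PB_norm {h u : G} (hh : h ∈ PB S) (hu : u ∈ J S.XZ 1 7) : h * u * h⁻¹ ∈ J S.XZ 1 7 := by
  have Z := S.zsys8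
  have h1 : PB S ≤ Subgroup.normalizer (J S.XZ 1 7 : Set G) := by
    refine sup_le (fun t ht => ?_) ?_
    · rw [Subgroup.mem_normalizer_iff]
      intro x
      refine ⟨fun hx => S.T_conj_J ht hx, fun hx => ?_⟩
      have := S.T_conj_J (inv_mem ht) hx
      rwa [show t⁻¹ * (t * x * t⁻¹) * t⁻¹⁻¹ = x by group] at this
    · have := Z.le_normalizer (a := 1) (b := 7) (by norm_num)
      exact this
  exact (Subgroup.mem_normalizer_iff.1 (h1 hh) u).1 hu

/-- an irreducible character of `PP` with fixed vectors under `BB` induces to a character of norm `≤ 5` -/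
theorem norm_of_BB [Fintype G] [Fintype (PP S)] [Fintype (BB S)] {τ : PP S → ℂ} (hτ : IsIrrCharacter (PP S) τ)
    (h : ∑ b : BB S, τ ⟨b, BB_le_PP S b.2⟩ ≠ 0) : ‖classInner (indFun (PP S) τ) (indFun (PP S) τ)‖ ≤ 5 := by
  classical
  have hch := Core.isIrr_isCharacter hτ
  let fB : BB S →* PP S := Subgroup.inclusion (BB_le_PP S)
  have hsub : ∀ (K : Subgroup G) (hK : K ≤ BB S) [Fintype K], ∑ k : K, τ ⟨k, BB_le_PP S (hK k.2)⟩ ≠ 0 := by
    intro K hK _
    exact sum_ne_zero_of_hom hch fB (Subgroup.inclusion hK) h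
  -- `N1` is in the kernel
  have := Fintype.ofFinite (N1 S)
  have hN : ∀ g r : PP S, (r : G) ∈ N1 S → τ (g * r) = τ g := by
    intro g r hr
    have := Fintype.ofFinite ((N1 S).subgroupOf (PP S))
    refine kernel_of_sum_ne_zero hτ ((N1 S).subgroupOf (PP S)) (fun g k hk => ?_) ?_ g (Subgroup.mem_subgroupOf.2 hr)
    · rw [Subgroup.mem_subgroupOf] at hk ⊢
      exact N1_norm S g.2 hk
    · have h1 := hsub (N1 S) (N1_le_BB S)
      intro h2
      apply h1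
      rw [← h2]
      exact Fintype.sum_equiv (Subgroup.subgroupOfEquivOfLe (N1_le_PP S)).toEquiv.symm _ _ fun k => rfl
  have hR : ∀ g r : PP S, (r : G) ∈ J S.XZ 2 8 → τ (g * r) = τ g := fun g r hr => hN g r (Subgroup.mem_sup_right hr)
  -- the restriction to `LO`
  have hirr := irr_restrict (LO_le_PP S) (N1_le_PP S) (fun g hg => PP_form S hg) hτ hN
  set χ : IrrCharacter S.LO := ⟨_, hirr⟩ with hχ
  have := Fintype.ofFinite S.LO
  have := Fintype.ofFinite (HH S)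
  have := Fintype.ofFinite (UU S)
  have hX : S.XZ 1 ≤ S.LO := le_sup_left
  have hXP : S.XZ 1 ≤ PP S := hX.trans (LO_le_PP S)
  have := Fintype.ofFinite (S.XZ 1)
  have := Fintype.ofFinite (BM S)
  -- sums of the trivial character
  have hsum : ∀ (K : Subgroup S.LO) [Fintype K], ((mu K 1 χ : ℕ) : ℂ) * Nat.card K =
      conj (∑ k : K, τ ⟨((k : S.LO) : G), LO_le_PP S (k : S.LO).2⟩) := by
    intro K _
    rw [← mu_spec K 1 χ, classInner_apply, mul_comm, mul_inv_cancel_left₀ card_ne_zero', map_sum]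
    refine Finset.sum_congr rfl fun k _ => ?_
    rw [MonoidHom.one_apply, Units.val_one, one_mul]
  have hH : mu (HH S) 1 χ ≠ 0 := by
    intro h0
    have h1 := hsum (HH S)
    rw [h0, Nat.cast_zero, zero_mul] at h1
    have h2 := (map_eq_zero _).1 h1.symm
    apply hsub (BM S) (BM_le_BB S)
    rw [← h2]
    let e : ↥(BM S) ≃ ↥(HH S) := (Subgroup.subgroupOfEquivOfLe (BM_le_LO S)).symm.toEquiv
    exact Fintype.sum_equiv e (fun k : BM S => τ ⟨k, BB_le_PP S (BM_le_BB S k.2)⟩)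
      (fun k : HH S => τ ⟨((k : S.LO) : G), LO_le_PP S (k : S.LO).2⟩) fun k => rfl
  have hmu := mu_le_one (data S) χ hH
  set n := mu (UU S) 1 χ with hn
  have hf : ∑ x : S.XZ 1, τ ⟨x, hXP x.2⟩ = Nat.card (S.XZ 1) * (n : ℂ) := by
    have h1 := hsum (UU S)
    have h2 : ∑ x : S.XZ 1, τ ⟨x, hXP x.2⟩ = ∑ k : UU S, τ ⟨((k : S.LO) : G), LO_le_PP S (k : S.LO).2⟩ := by
      let e : ↥(S.XZ 1) ≃ ↥(UU S) := (Subgroup.subgroupOfEquivOfLe hX).symm.toEquiv
      exact Fintype.sum_equiv e (fun x : S.XZ 1 => τ ⟨x, hXP x.2⟩)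
        (fun k : UU S => τ ⟨((k : S.LO) : G), LO_le_PP S (k : S.LO).2⟩) fun k => rfl
    have h3 : Nat.card (UU S) = Nat.card (S.XZ 1) := Nat.card_congr (Subgroup.subgroupOfEquivOfLe hX).toEquiv
    have h4 := congrArg (starRingEnd ℂ) h1
    rw [Complex.conj_conj, map_mul, Complex.conj_natCast, Complex.conj_natCast] at h4
    rw [h2, ← h4, h3, mul_comm]
  refine (norm_PP S hτ hR hXP hf).trans ?_
  rw [Complex.norm_natCast]
  have h5 : (n : ℝ) ≤ 1 := by exact_mod_cast hmu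
  have h6 : (0 : ℝ) ≤ n := Nat.cast_nonneg n
  nlinarith

/-- **Nine irreducible characters which agree on the parabolic subgroups are cuspidal.** -/
theorem cuspidal [Fintype G] (s : Finset (IrrCharacter G)) (hs : 9 ≤ s.card)
    (hP : ∀ χ ∈ s, ∀ χ' ∈ s, ∀ g ∈ PP S, (χ : G → ℂ) g = (χ' : G → ℂ) g)
    (hP' : ∀ χ ∈ s, ∀ χ' ∈ s, ∀ g ∈ PB S, (χ : G → ℂ) g = (χ' : G → ℂ) g)
    [Fintype (J S.XZ 2 8)] [Fintype (J S.XZ 1 7)] :
    ∀ χ ∈ s, ∑ u : J S.XZ 2 8, (χ : G → ℂ) u = 0 ∧ ∑ u : J S.XZ 1 7, (χ : G → ℂ) u = 0 := by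
  classical
  have Z := S.zsys8
  have := Fintype.ofFinite (PP S)
  have := Fintype.ofFinite (PB S)
  have := Fintype.ofFinite (BB S)
  have := Fintype.ofFinite (J S.XZ 1 8)
  have := Fintype.ofFinite (S.XZ 1)
  have := Fintype.ofFinite (S.XZ 8)
  have hs9 : (9 : ℝ) ≤ s.card := by exact_mod_cast hs
  have hrc : ∀ (χ : IrrCharacter G) (P : Subgroup G), IsCharacter P fun g : P => (χ : G → ℂ) g := fun χ P =>
    Core.isCharacter_comp P.subtype (Core.isIrr_isCharacter χ.2)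
  -- Step A
  have hA : ∀ χ ∈ s, ∑ u : J S.XZ 1 8, (χ : G → ℂ) u = 0 := by
    intro χ hχ
    by_contra hne
    let U' : Subgroup (BB S) := (J S.XZ 1 8).subgroupOf (BB S)
    have := Fintype.ofFinite U'
    obtain ⟨θ, hθU, hθ⟩ := Lin.exists_lin (hrc χ (BB S)) U' (fun g u hu => by
        rw [Subgroup.mem_subgroupOf] at hu ⊢
        exact BB_norm S g.2 hu) (fun h k => by
        obtain ⟨u, hu, e⟩ := BB_comm S h.2 k.2
        exact ⟨⟨u, J_le_BB S hu⟩, Subgroup.mem_subgroupOf.2 hu, Subtype.ext e⟩) (by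
        intro h0
        apply hne
        rw [← h0]
        exact Fintype.sum_equiv (Subgroup.subgroupOfEquivOfLe (J_le_BB S)).toEquiv.symm _ _ fun k => rfl)
    have hle := card_le_ind (BB S) (Characters.Linear.isCharacter_hom θ) s
      (fun χ hχ χ' hχ' g hg => hP χ hχ χ' hχ' g (BB_le_PP S hg)) hχ hθ
    by_cases hθ1 : θ = 1
    · -- fixed vectors of the Borel subgroup
      have h1 : ∑ b : BB S, (χ : G → ℂ) b ≠ 0 := by
        intro h0
        apply hθ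
        rw [hθ1, classInner_apply]
        have e : ∑ g : BB S, (χ : G → ℂ) g * conj ((((1 : BB S →* ℂˣ) g : ℂˣ)) : ℂ) = ∑ b : BB S, (χ : G → ℂ) b :=
          Finset.sum_congr rfl fun g _ => by simp
        rw [e, h0, mul_zero]
      obtain ⟨τ, hτ, h2, h3⟩ := irr_of_sum_ne_zero (hrc χ (PP S))
        (fun b : BB S => (⟨b, BB_le_PP S b.2⟩ : PP S)) h1
      have h4 := card_le_ind (PP S) (Core.isIrr_isCharacter hτ) s hP hχ h2
      have h5 := norm_of_BB S hτ h3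
      linarith
    · have h1 := norm_BB S θ (fun u hu => hθU u (Subgroup.mem_subgroupOf.2 hu)) hθ1
      linarith
  intro χ hχ
  constructor
  · by_contra hne
    have h28 : J S.XZ 2 8 ≤ PP S := (J_mono (by norm_num) (by norm_num)).trans (J_le_PP S)
    have h18 : J S.XZ 1 8 ≤ PP S := (J_mono (by norm_num) (by norm_num)).trans (J_le_PP S)
    have hX : S.XZ 1 ≤ PP S := (X_le_J le_rfl (by norm_num)).trans h18
    obtain ⟨τ, hτ, h2, h3⟩ := irr_of_sum_ne_zero (hrc χ (PP S))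
      (fun b : J S.XZ 2 8 => (⟨b, h28 b.2⟩ : PP S)) hne
    have hR : ∀ g r : PP S, (r : G) ∈ J S.XZ 2 8 → τ (g * r) = τ g := by
      intro g r hr
      have := Fintype.ofFinite ((J S.XZ 2 8).subgroupOf (PP S))
      refine kernel_of_sum_ne_zero hτ ((J S.XZ 2 8).subgroupOf (PP S)) (fun g k hk => ?_) ?_ g
        (Subgroup.mem_subgroupOf.2 hr)
      · rw [Subgroup.mem_subgroupOf] at hk ⊢
        exact PP_norm S g.2 hk
      · intro h0
        apply h3
        rw [← h0]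
        exact Fintype.sum_equiv (Subgroup.subgroupOfEquivOfLe h28).toEquiv.symm _ _ fun k => rfl
    have h4 := card_le_ind (PP S) (Core.isIrr_isCharacter hτ) s hP hχ h2
    have h5 : ∑ u : J S.XZ 1 8, τ ⟨u, h18 u.2⟩ = 0 :=
      sum_eq_zero_of_constituent (hrc χ (PP S)) hτ h2 (Subgroup.inclusion h18) (hA χ hχ)
    have h6 := sum_U (U := J S.XZ 1 8) (X := S.XZ 1) (R := J S.XZ 2 8) (extendByZero (PP S) τ)
      (X_le_J le_rfl (by norm_num)) (fun g r hr => ?_) (fun g hg => Z.split_ll (by norm_num) (by norm_num) hg)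
    · have h7 : ∑ g : J S.XZ 1 8, extendByZero (PP S) τ g = 0 := by
        rw [← h5]
        exact Finset.sum_congr rfl fun g _ => ext_apply_mem _ _ _ (h18 g.2)
      rw [h7, mul_zero] at h6
      have h8 := (mul_eq_zero.1 h6).resolve_left card_ne_zero'
      have h9 : ∑ x : S.XZ 1, τ ⟨x, hX x.2⟩ = Nat.card (S.XZ 1) * (0 : ℂ) := by
        rw [mul_zero, ← h8]
        exact Finset.sum_congr rfl fun g _ => (ext_apply_mem _ _ _ (hX g.2)).symm
      have h10 := norm_PP S hτ hR hX h9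
      rw [norm_zero] at h10
      norm_num at h10
      linarith
    · by_cases hg : g ∈ PP S
      · rw [ext_apply_mem _ τ g hg, ext_apply_mem _ τ _ (mul_mem hg (h28 hr))]
        exact hR ⟨g, hg⟩ ⟨r, h28 hr⟩ hr
      · rw [ext_apply_not_mem _ τ g hg, ext_apply_not_mem _ τ _ fun h => hg ?_]
        have := mul_mem h (inv_mem (h28 hr))
        rwa [mul_inv_cancel_right] at this
  · by_contra hne
    have h17 : J S.XZ 1 7 ≤ PB S := (J_mono (by norm_num) (by norm_num)).trans (J_le_PB S)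
    have h18 : J S.XZ 1 8 ≤ PB S := (J_mono (by norm_num) (by norm_num)).trans (J_le_PB S)
    have hX : S.XZ 8 ≤ PB S := (X_le_J (by norm_num) le_rfl).trans h18
    obtain ⟨τ, hτ, h2, h3⟩ := irr_of_sum_ne_zero (hrc χ (PB S))
      (fun b : J S.XZ 1 7 => (⟨b, h17 b.2⟩ : PB S)) hne
    have hR : ∀ g r : PB S, (r : G) ∈ J S.XZ 1 7 → τ (g * r) = τ g := by
      intro g r hr
      have := Fintype.ofFinite ((J S.XZ 1 7).subgroupOf (PB S))
      refine kernel_of_sum_ne_zero hτ ((J S.XZ 1 7).subgroupOf (PB S)) (fun g k hk => ?_) ?_ g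
        (Subgroup.mem_subgroupOf.2 hr)
      · rw [Subgroup.mem_subgroupOf] at hk ⊢
        exact PB_norm S g.2 hk
      · intro h0
        apply h3
        rw [← h0]
        exact Fintype.sum_equiv (Subgroup.subgroupOfEquivOfLe h17).toEquiv.symm _ _ fun k => rfl
    have h4 := card_le_ind (PB S) (Core.isIrr_isCharacter hτ) s hP' hχ h2
    have h5 : ∑ u : J S.XZ 1 8, τ ⟨u, h18 u.2⟩ = 0 :=
      sum_eq_zero_of_constituent (hrc χ (PB S)) hτ h2 (Subgroup.inclusion h18) (hA χ hχ)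
    have h6 := sum_U (U := J S.XZ 1 8) (X := S.XZ 8) (R := J S.XZ 1 7) (extendByZero (PB S) τ)
      (X_le_J (by norm_num) le_rfl) (fun g r hr => ?_) (fun g hg => Z.split_rl (by norm_num) (by norm_num) hg)
    · have h7 : ∑ g : J S.XZ 1 8, extendByZero (PB S) τ g = 0 := by
        rw [← h5]
        exact Finset.sum_congr rfl fun g _ => ext_apply_mem _ _ _ (h18 g.2)
      rw [h7, mul_zero] at h6
      have h8 := (mul_eq_zero.1 h6).resolve_left card_ne_zero'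
      have h9 : ∑ x : S.XZ 8, τ ⟨x, hX x.2⟩ = Nat.card (S.XZ 8) * (0 : ℂ) := by
        rw [mul_zero, ← h8]
        exact Finset.sum_congr rfl fun g _ => (ext_apply_mem _ _ _ (hX g.2)).symm
      have h10 := norm_PB S hτ hR hX h9
      rw [norm_zero] at h10
      norm_num at h10
      linarith
    · by_cases hg : g ∈ PB S
      · rw [ext_apply_mem _ τ g hg, ext_apply_mem _ τ _ (mul_mem hg (h17 hr))]
        exact hR ⟨g, hg⟩ ⟨r, h17 hr⟩ hr
      · rw [ext_apply_not_mem _ τ g hg, ext_apply_not_mem _ τ _ fun h => hg ?_]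
        have := mul_mem h (inv_mem (h17 hr))
        rwa [mul_inv_cancel_right] at this

end Cfsg.Agent.H628.Sq.TwFHC
end

-- part: H628/Sq/TwFTorus
section
/-!
# `²F₄(q)`: cuspidal characters vanish on the nonidentity elements of the torus

* `one_pair` : an element `≠ 1` of the torus has fixed points on at most one pair of opposite root groups;
* `zero_at` : cuspidal characters vanish there;
* `card_T`, `sq_dvd` : `(q-1)²` divides the degrees of the cuspidal characters.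
-/

set_option autoImplicit false
set_option linter.unusedSectionVars false

namespace Cfsg.Agent.H628.Sq.TwFTorus

open Cfsg Cfsg.Agent.SplitTwo Cfsg.Agent.SplitTwo.ZS Cfsg.Agent.TitsThree.RankTwoZ Cfsg.Agent.SplitTwo.RootSysZ
open Cfsg.Agent.KFacts.TwF4 Cfsg.Agent.KFacts.TwF4.Arc Cfsg.Agent.KFacts.TwF4.SylU Cfsg.Agent.KFacts.TwF4.TorEx
open Cfsg.Agent.KFacts.TwF4.Full

universe u

/-! ### linear forms with coefficients in `ℤ[√2]` -/

section forms

variable {F : Type*} [Field F] {σ : F →+* F}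

/-- the product in `ℤ[√2]` -/
def ml (e g : ℤ × ℤ) : ℤ × ℤ := (e.1 * g.1 + 2 * (e.2 * g.2), e.1 * g.2 + e.2 * g.1)

theorem ml_comm (e g : ℤ × ℤ) : ml e g = ml g e := by
  unfold ml
  exact Prod.ext (by ring) (by ring)

theorem pw_pw (hσ : ∀ x, σ (σ x) = x ^ 2) (w : Fˣ) (e g : ℤ × ℤ) : pw σ (pw σ w e) g = pw σ w (ml e g) := by
  have h1 : Units.map (σ : F →* F) (pw σ w e) = pw σ w (sh e) := map_pw hσ e
  show pw σ w e ^ g.1 * (Units.map (σ : F →* F) (pw σ w e)) ^ g.2 = _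
  rw [h1]
  unfold pw sh ml
  simp only
  rw [mul_zpow, mul_zpow, ← zpow_mul, ← zpow_mul, ← zpow_mul, ← zpow_mul, mul_mul_mul_comm, ← zpow_add, ← zpow_add]
  congr 2 <;> ring

theorem pw_base (x y : Fˣ) (g : ℤ × ℤ) : pw σ (x * y) g = pw σ x g * pw σ y g := by
  unfold pw
  rw [map_mul, mul_zpow, mul_zpow, mul_mul_mul_comm]

theorem pw_one (g : ℤ × ℤ) : pw σ (1 : Fˣ) g = 1 := by
  unfold pw
  rw [map_one, one_zpow, one_zpow, one_mul]

/-- the value of a linear form -/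
def fm (σ : F →+* F) (c d : Fˣ) (L : (ℤ × ℤ) × (ℤ × ℤ)) : Fˣ := pw σ c L.1 * pw σ d L.2

/-- the determinant -/
def det (L M : (ℤ × ℤ) × (ℤ × ℤ)) : ℤ × ℤ := ml L.1 M.2 - ml L.2 M.1

theorem fm_det (hσ : ∀ x, σ (σ x) = x ^ 2) {c d : Fˣ} {L M : (ℤ × ℤ) × (ℤ × ℤ)} (hL : fm σ c d L = 1)
    (hM : fm σ c d M = 1) : pw σ c (det L M) = 1 ∧ pw σ d (det L M) = 1 := by
  have key : ∀ (N : (ℤ × ℤ) × (ℤ × ℤ)) (g : ℤ × ℤ), fm σ c d N = 1 → pw σ c (ml N.1 g) * pw σ d (ml N.2 g) = 1 := by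
    intro N g hN
    rw [← pw_pw hσ, ← pw_pw hσ, ← pw_base]
    show pw σ (fm σ c d N) g = 1
    rw [hN, pw_one]
  have h1 := key L M.2 hL
  have h2 := key M L.2 hM
  have h3 := key L M.1 hL
  have h4 := key M L.1 hM
  constructor
  · have h5 : pw σ c (ml L.1 M.2) * pw σ d (ml L.2 M.2) / (pw σ c (ml M.1 L.2) * pw σ d (ml M.2 L.2)) = 1 := by
      rw [h1, h2, div_one]
    rw [ml_comm M.2 L.2, mul_div_mul_right_eq_div, pw_div, ml_comm M.1 L.2] at h5
    exact h5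
  · have h5 : pw σ c (ml M.1 L.1) * pw σ d (ml M.2 L.1) / (pw σ c (ml L.1 M.1) * pw σ d (ml L.2 M.1)) = 1 := by
      rw [h4, h3, div_one]
    rw [ml_comm M.1 L.1, mul_div_mul_left_eq_div, pw_div, ml_comm M.2 L.1] at h5
    exact h5

/-- the characters of the even root groups -/
def LE (a : ZMod 8) : (ℤ × ℤ) × (ℤ × ℤ) :=
  (![((1, 0), (0, 0)), ((0, 0), (1, 0)), ((-1, 0), (0, 1)), ((0, -1), (1, 0)),
    ((-1, 0), (0, 0)), ((0, 0), (-1, 0)), ((1, 0), (0, -1)), ((0, 1), (-1, 0))] : Fin 8 → (ℤ × ℤ) × (ℤ × ℤ)) a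

/-- the characters of the odd root groups -/
def LO (a : ZMod 8) : (ℤ × ℤ) × (ℤ × ℤ) := LE a + LE (a + 1)

theorem chE_fm (a : ZMod 8) (c d : Fˣ) : chE σ a c d = fm σ c d (LE a) := by
  have key : ∀ a : Fin 8, chE σ (a : ZMod 8) c d = fm σ c d (LE (a : ZMod 8)) := by
    intro a
    fin_cases a
    · show c = c ^ (1 : ℤ) * (Units.map (σ : F →* F) c) ^ (0 : ℤ) * (d ^ (0 : ℤ) * (Units.map (σ : F →* F) d) ^ (0 : ℤ))
      simp
    · show d = c ^ (0 : ℤ) * (Units.map (σ : F →* F) c) ^ (0 : ℤ) * (d ^ (1 : ℤ) * (Units.map (σ : F →* F) d) ^ (0 : ℤ))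
      simp
    · show Units.map (σ : F →* F) d / c = c ^ (-1 : ℤ) * (Units.map (σ : F →* F) c) ^ (0 : ℤ) *
        (d ^ (0 : ℤ) * (Units.map (σ : F →* F) d) ^ (1 : ℤ))
      simp [div_eq_mul_inv, mul_comm]
    · show d / Units.map (σ : F →* F) c = c ^ (0 : ℤ) * (Units.map (σ : F →* F) c) ^ (-1 : ℤ) *
        (d ^ (1 : ℤ) * (Units.map (σ : F →* F) d) ^ (0 : ℤ))
      simp [div_eq_mul_inv, mul_comm]
    · show c⁻¹ = c ^ (-1 : ℤ) * (Units.map (σ : F →* F) c) ^ (0 : ℤ) * (d ^ (0 : ℤ) * (Units.map (σ : F →* F) d) ^ (0 : ℤ))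
      simp
    · show d⁻¹ = c ^ (0 : ℤ) * (Units.map (σ : F →* F) c) ^ (0 : ℤ) * (d ^ (-1 : ℤ) * (Units.map (σ : F →* F) d) ^ (0 : ℤ))
      simp
    · show c / Units.map (σ : F →* F) d = c ^ (1 : ℤ) * (Units.map (σ : F →* F) c) ^ (0 : ℤ) *
        (d ^ (0 : ℤ) * (Units.map (σ : F →* F) d) ^ (-1 : ℤ))
      simp [div_eq_mul_inv]
    · show Units.map (σ : F →* F) c / d = c ^ (0 : ℤ) * (Units.map (σ : F →* F) c) ^ (1 : ℤ) *
        (d ^ (-1 : ℤ) * (Units.map (σ : F →* F) d) ^ (0 : ℤ))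
      simp [div_eq_mul_inv]
  have h := key a
  exact h

theorem chO_fm (a : ZMod 8) (c d : Fˣ) : chO σ a c d = fm σ c d (LO a) := by
  unfold chO LO
  rw [chE_fm, chE_fm]
  unfold fm
  rw [Prod.fst_add, Prod.snd_add, ← pw_mul, ← pw_mul, mul_mul_mul_comm]

theorem good_EE : ∀ a b : ZMod 8, ¬ (b = a ∨ b = a + 4) → Good (det (LE a) (LE b)) := by decide +kernel
theorem good_EO : ∀ a b : ZMod 8, Good (det (LE a) (LO b)) := by decide +kernel
theorem good_OO : ∀ a b : ZMod 8, ¬ (b = a ∨ b = a + 4) → Good (det (LO a) (LO b)) := by decide +kernel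

end forms

variable {F : Type*} [Field F] {σ : F →+* F} {G : Type u} [Group G] (S : Full σ G)

theorem conv (a b : ℤ) : ((b : ZMod 8) = a ∨ (b : ZMod 8) = a + 4) ↔ (8 : ℤ) ∣ 2 * (b - a) := by
  have cast8 : ∀ n : ℤ, ((n : ZMod 8) = 0 ∨ (n : ZMod 8) = 4) ↔ (8 : ℤ) ∣ 2 * n := by
    intro n
    constructor
    · rintro (h | h)
      · have := (ZMod.intCast_zmod_eq_zero_iff_dvd n 8).1 h
        exact Dvd.dvd.mul_left (by exact_mod_cast this) 2
      · have h1 : ((n - 4 : ℤ) : ZMod 8) = 0 := by push_cast; rw [h]; decide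
        have := (ZMod.intCast_zmod_eq_zero_iff_dvd _ 8).1 h1
        omega
    · intro h
      obtain ⟨c, hc⟩ := h
      have hn : n = 4 * c := by omega
      obtain ⟨d, rfl | rfl⟩ := Int.even_or_odd' c
      · left
        rw [ZMod.intCast_zmod_eq_zero_iff_dvd]
        exact ⟨d, by rw [hn]; push_cast; ring⟩
      · right
        have h1 : ((n - 4 : ℤ) : ZMod 8) = 0 := by
          rw [ZMod.intCast_zmod_eq_zero_iff_dvd]
          exact ⟨d, by rw [hn]; push_cast; ring⟩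
        push_cast at h1
        exact sub_eq_zero.1 h1
  rw [← cast8]
  push_cast
  constructor
  · rintro (h | h)
    · left; rw [h, sub_self]
    · right; rw [h, add_sub_cancel_left]
  · rintro (h | h)
    · left; exact sub_eq_zero.1 h
    · right; rw [← h, add_sub_cancel]

/-- `t` has fixed points on `X_k` -/
def Fx (t : G) (k : ℤ) : Prop := ∃ x ∈ S.XZ k, x ≠ 1 ∧ t * x * t⁻¹ = x

theorem form_of_fx {c d : Fˣ} {k : ℤ} (h : Fx S (S.h c d) k) :
    (∃ a : ℤ, k = 2 * a ∧ fm σ c d (LE (a : ZMod 8)) = 1) ∨ ∃ a : ℤ, k = 2 * a + 1 ∧ fm σ c d (LO (a : ZMod 8)) = 1 := by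
  obtain ⟨x, hx, hx1, hf⟩ := h
  obtain ⟨a, rfl | rfl⟩ := Int.even_or_odd' k
  · left
    refine ⟨a, rfl, ?_⟩
    by_contra hne
    exact hx1 (fixX_even S (by rw [chE_fm]; exact hne) hx hf)
  · right
    refine ⟨a, rfl, ?_⟩
    by_contra hne
    exact hx1 (fixX_odd S (by rw [chO_fm]; exact hne) hx hf)

/-- **An element `≠ 1` of the torus has fixed points on at most one pair of opposite root groups.** -/
theorem one_pair {c d : Fˣ} (hcd : ¬ (c = 1 ∧ d = 1)) {k j : ℤ} (hk : Fx S (S.h c d) k) (hj : Fx S (S.h c d) j) :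
    (8 : ℤ) ∣ j - k := by
  have key : ∀ {L M : (ℤ × ℤ) × (ℤ × ℤ)}, fm σ c d L = 1 → fm σ c d M = 1 → ¬ Good (det L M) := by
    intro L M hL hM hg
    obtain ⟨h1, h2⟩ := fm_det S.sq hL hM
    exact hcd ⟨eq_one_of_good S hg h1, eq_one_of_good S hg h2⟩
  rcases form_of_fx S hk with ⟨a, rfl, ha⟩ | ⟨a, rfl, ha⟩ <;> rcases form_of_fx S hj with ⟨b, rfl, hb⟩ | ⟨b, rfl, hb⟩
  · have h1 : (b : ZMod 8) = a ∨ (b : ZMod 8) = a + 4 := by
      by_contra hne
      exact key ha hb (good_EE _ _ hne)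
    have := (conv a b).1 h1
    rwa [mul_sub] at this
  · exact absurd (good_EO _ _) (key ha hb)
  · exact absurd (good_EO _ _) (key hb ha)
  · have h1 : (b : ZMod 8) = a ∨ (b : ZMod 8) = a + 4 := by
      by_contra hne
      exact key ha hb (good_OO _ _ hne)
    have := (conv a b).1 h1
    have e : 2 * b + 1 - (2 * a + 1) = 2 * (b - a) := by ring
    rwa [e]

/-- a torus element without fixed points on `X_a, ..., X_(a+6)` has none on `J a (a+6)` -/
theorem free_J {t : G} (ht : t ∈ S.T) {a : ℤ} (h : ∀ k, a ≤ k → k ≤ a + 6 → ¬ Fx S t k) {u : G}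
    (hu : u ∈ J S.XZ a (a + 6)) (hf : t * u * t⁻¹ = u) : u = 1 := by
  have Z := S.zsys8
  have h1 : u ∈ S.XZ (a - 1) := by
    refine Arc.fix_X Z (a := a) (b := a + 6) (c := a - 1) (by omega) (fun j x hx => S.T_conj ht j hx) ?_ hu hf
    intro k h1 h2 _ x hx hxf
    by_contra hne
    exact h k h1 h2 ⟨x, hx, hne, hxf⟩
  exact Z.inter (a - 1) u h1 (J_mono (by omega) (by omega) hu)

theorem char_conj {χ : G → ℂ} (hχ : IsIrrCharacter G χ) (g x : G) : χ (g * x * g⁻¹) = χ x :=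
  Cfsg.Agent.Characters.Core.isIrr_isClassFunction hχ x g

/-- a cuspidal character vanishes at an element of the torus without fixed points on `J` -/
theorem zero_of_free {χ : G → ℂ} (hχ : IsIrrCharacter G χ) {a b : ℤ} (hab : b = a + 6) [Fintype (J S.XZ a b)]
    (hc : ∑ u : J S.XZ a b, χ u = 0) {t : G} (ht : t ∈ S.T) (h : ∀ k, a ≤ k → k ≤ a + 6 → ¬ Fx S t k) : χ t = 0 := by
  subst hab
  obtain ⟨n, ρ, hρ, rfl⟩ := hχ
  refine H710.Cuspidal.zero_of_regular ρ (J S.XZ a (a + 6)) hc (x := t) (fun u => ⟨fun hu => S.T_conj_J ht hu, fun hu => ?_⟩)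
    fun u hu hcomm => ?_
  · have := S.T_conj_J (inv_mem ht) hu
    rwa [show t⁻¹ * (t * u * t⁻¹) * t⁻¹⁻¹ = u by group] at this
  · refine free_J S ht h hu ?_
    rw [hcomm]
    group

theorem Fx_conj {t : G} (k : ℤ) {j : ℤ} (h : Fx S (S.rot ^ k * t * (S.rot ^ k)⁻¹) (j + 2 * k)) : Fx S t j := by
  obtain ⟨x, hx, hx1, hf⟩ := h
  refine ⟨(S.rot ^ k)⁻¹ * x * S.rot ^ k, ?_, ?_, ?_⟩
  · rw [← S.rotk_X k j, show S.rot ^ k * ((S.rot ^ k)⁻¹ * x * S.rot ^ k) * (S.rot ^ k)⁻¹ = x by group]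
    exact hx
  · intro h1
    apply hx1
    have : x = S.rot ^ k * ((S.rot ^ k)⁻¹ * x * S.rot ^ k) * (S.rot ^ k)⁻¹ := by group
    rw [this, h1]
    group
  · nth_rw 2 [← hf]
    group

theorem rot_T [Finite F] (k : ℤ) {t : G} (ht : t ∈ S.T) : S.rot ^ k * t * (S.rot ^ k)⁻¹ ∈ S.T := by
  have := Cfsg.Agent.H628.Sq.TwFNorm.conj_T_rot S (-k) ht
  rwa [zpow_neg, inv_inv] at this

/-- **A cuspidal character vanishes at the elements `≠ 1` of the torus.** -/
theorem zero_at [Finite F] [Finite G] {χ : G → ℂ} (hχ : IsIrrCharacter G χ) [Fintype (J S.XZ 2 8)] [Fintype (J S.XZ 1 7)]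
    (h28 : ∑ u : J S.XZ 2 8, χ u = 0) (h17 : ∑ u : J S.XZ 1 7, χ u = 0) {t : G} (ht : t ∈ S.T) (h1 : t ≠ 1) :
    χ t = 0 := by
  obtain ⟨c, d, rfl⟩ := S.mem_T.1 ht
  have hcd : ¬ (c = 1 ∧ d = 1) := by
    rintro ⟨rfl, rfl⟩
    exact h1 S.h_one
  by_cases hex : ∃ k, Fx S (S.h c d) k
  · obtain ⟨k, hk⟩ := hex
    obtain ⟨a, rfl | rfl⟩ := Int.even_or_odd' k
    · -- even: move to `X_0`
      rw [← char_conj hχ (S.rot ^ (-a)) (S.h c d)]
      refine zero_of_free S hχ (a := 1) (b := 7) (by norm_num) h17 (rot_T S (-a) ht) fun j h2 h3 hj => ?_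
      have h4 : Fx S (S.h c d) (j + 2 * a) := Fx_conj S (-a) (by
        rw [show j + 2 * a + 2 * -a = j by ring]
        exact hj)
      have h5 := one_pair S hcd hk h4
      rw [add_sub_cancel_right] at h5
      omega
    · rw [← char_conj hχ (S.rot ^ (-a)) (S.h c d)]
      refine zero_of_free S hχ (a := 2) (b := 8) (by norm_num) h28 (rot_T S (-a) ht) fun j h2 h3 hj => ?_
      have h4 : Fx S (S.h c d) (j + 2 * a) := Fx_conj S (-a) (by
        rw [show j + 2 * a + 2 * -a = j by ring]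
        exact hj)
      have h5 := one_pair S hcd hk h4
      have e : j + 2 * a - (2 * a + 1) = j - 1 := by ring
      rw [e] at h5
      omega
  · push Not at hex
    exact zero_of_free S hχ (a := 2) (b := 8) (by norm_num) h28 ht fun k _ _ => hex k

theorem card_T [Finite F] : Nat.card S.T = (Nat.card F - 1) ^ 2 := by
  have hinj : Function.Injective fun x : Fˣ × Fˣ => (⟨S.h x.1 x.2, S.mem_T.2 ⟨_, _, rfl⟩⟩ : S.T) := by
    rintro ⟨a, b⟩ ⟨c, d⟩ e
    have e1 : S.h a b = S.h c d := congrArg Subtype.val e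
    have e0 := S.h_e a b 0 1 0
    have e2 := S.h_e c d 0 1 0
    have e3 := S.h_e a b 1 1 0
    have e4 := S.h_e c d 1 1 0
    rw [e1] at e0 e3
    rw [e0] at e2
    rw [e3] at e4
    obtain ⟨a1, -⟩ := S.injE _ _ _ _ _ e2
    obtain ⟨a2, -⟩ := S.injE _ _ _ _ _ e4
    rw [mul_one, mul_one, chE_zero, chE_zero] at a1
    rw [mul_one, mul_one, chE_one, chE_one] at a2
    exact Prod.ext (Units.ext a1) (Units.ext a2)
  have hsurj : Function.Surjective fun x : Fˣ × Fˣ => (⟨S.h x.1 x.2, S.mem_T.2 ⟨_, _, rfl⟩⟩ : S.T) := by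
    rintro ⟨t, ht⟩
    obtain ⟨c, d, rfl⟩ := S.mem_T.1 ht
    exact ⟨(c, d), rfl⟩
  rw [← Nat.card_congr (Equiv.ofBijective _ ⟨hinj, hsurj⟩), Nat.card_prod, Cfsg.Agent.H42.Deg.F4.card_units, _root_.sq]

/-- **`(q-1)²` divides the degrees of the cuspidal characters.** -/
theorem sq_dvd [Finite F] [Finite G] {χ : G → ℂ} (hχ : IsIrrCharacter G χ) [Fintype (J S.XZ 2 8)]
    [Fintype (J S.XZ 1 7)] (h28 : ∑ u : J S.XZ 2 8, χ u = 0) (h17 : ∑ u : J S.XZ 1 7, χ u = 0) :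
    (Nat.card F - 1) ^ 2 ∣ charDegree χ := by
  classical
  have := Fintype.ofFinite S.T
  obtain ⟨m, hm⟩ := Cfsg.Agent.H710.Cuspidal.exists_mult S.T hχ
  rw [Finset.sum_eq_single (1 : S.T) (fun t _ ht => zero_at S hχ h28 h17 t.2 fun h1 => ht (Subtype.ext h1))
    (fun h1 => absurd (Finset.mem_univ _) h1)] at hm
  refine ⟨m, ?_⟩
  rw [OneMemClass.coe_one, Cfsg.Agent.Blocks.Basic.irr_one_eq_charDegree hχ, card_T S] at hm
  exact_mod_cast hm

end Cfsg.Agent.H628.Sq.TwFTorus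
end
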